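import Cfsg.Agent.Omega.KL.StarM.Def

/-!
# LEMMA MOV in vector form (bb #25784 (2), (3) of helper789; #24831 of helper192): the literal

* `BadY J Y` : an element `d` of odd order which normalises `Y` and `J`, with `[J, d]` trivial on `[Y, d]`,
  centralises `Y`;  `BadG T J Z Y` : the same only for the `d` in `N(T)` or in a `T`-minimal `P ≤ N(J)` which moves `Z`;
* `InpB T A J Z Y Y'` : `InpM` without `NZ`, with `cY` replaced by `cb` (`cY`, or `BadG` with a `J ≤ T`);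
* `PreB T A J Z Y Y'` : the same for an `A` which is exact modulo the kernel.
-/

set_option autoImplicit false

namespace Cfsg.Agent.Omega.KL.StarM

open Subgroup Cfsg Cfsg.Agent.ZN Cfsg.Agent.ClassTwoFusion.Quad Cfsg.Agent.Omega.ML.MinFrame
open Cfsg.Agent.MinSimple.MinParabolic (IsMinPar)

universe u v

/-- an element `d` of odd order which normalises `Y` and `J`, with `[J, d]` trivial on `[Y, d]`, centralises `Y` -/
def BadY {H : Type u} [Group H] {M : Type v} [Group M] [MulDistribMulAction H M] (J : Subgroup H) (Y : Subgroup M) :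
    Prop :=
  ∀ d : H, Odd (orderOf d) → (∀ w ∈ Y, d • w ∈ Y) → d ∈ normalizer (J : Set H) →
    (∀ j ∈ J, ∀ w ∈ Y, (j * d * j⁻¹ * d⁻¹) • ((d • w) * w⁻¹) = (d • w) * w⁻¹) → ∀ w ∈ Y, d • w = w

/-- `BadY` for the elements `d` of `N(T)` and of the `T`-minimal `P ≤ N(J)` which move `Z` -/
def BadG {H : Type u} [Group H] {M : Type v} [Group M] [MulDistribMulAction H M] (T J : Subgroup H)
    (Z Y : Subgroup M) : Prop :=
  ∀ d : H, Odd (orderOf d) →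
    ((∃ P : Subgroup H, IsMinPar T P ∧ (¬ ∀ z ∈ Z, ∀ p ∈ P, p • z = z) ∧ P ≤ normalizer (J : Set H) ∧ d ∈ P) ∨
      d ∈ normalizer (T : Set H)) → (∀ w ∈ Y, d • w ∈ Y) →
    (∀ j ∈ J, ∀ w ∈ Y, (j * d * j⁻¹ * d⁻¹) • ((d • w) * w⁻¹) = (d • w) * w⁻¹) → ∀ w ∈ Y, d • w = w

theorem BadY.badG {H : Type u} [Group H] {M : Type v} [Group M] [MulDistribMulAction H M] {T J : Subgroup H}
    {Z Y : Subgroup M} (h : BadY J Y) (NJ : normalizer (T : Set H) ≤ normalizer (J : Set H)) : BadG T J Z Y := by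
  rintro d hd (⟨P, -, -, hPJ, hdP⟩ | hdT) hY hc
  · exact h d hd hY (hPJ hdP) hc
  · exact h d hd hY (NJ hdT) hc

/-- **The input in vector form.** -/
structure InpB {H : Type u} [Group H] {M : Type v} [Group M] [MulDistribMulAction H M] (T A J : Subgroup H)
    (Z Y Y' : Subgroup M) : Prop where
  sq : ∀ m : M, m * m = 1
  two : IsPGroup 2 T
  syl : ¬ 2 ∣ T.index
  tZ : ∀ z ∈ Z, ∀ t ∈ T, t • z = z
  NY : ∀ g ∈ normalizer (T : Set H), ∀ w ∈ Y, g • w ∈ Y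
  NY' : ∀ g ∈ normalizer (T : Set H), ∀ w ∈ Y', g • w ∈ Y'
  ZY' : Z ≤ Y'
  dis : Y ⊓ Y' = ⊥
  /-- the `T`-fixed vectors of `Y` are fixed by `H`, or `BadG T J Z Y` -/
  cb : (∀ w ∈ Y, (∀ t ∈ T, t • w = w) → ∀ g : H, g • w = w) ∨
    (J ≤ T ∧ normalizer (T : Set H) ≤ normalizer (J : Set H) ∧
      (∀ P : Subgroup H, IsMinPar T P → (∀ z ∈ Z, ∀ p ∈ P, p • z = z) ∨
        (∀ g ∈ P, Odd (orderOf g) → ∀ w ∈ Y, g • w = w) ∨ P ≤ normalizer (J : Set H)) ∧ BadG T J Z Y)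
  /-- a `T`-minimal `P` fixes `Z` pointwise, or it normalises `Y` and `Y'` -/
  par : ∀ P : Subgroup H, IsMinPar T P → (∀ z ∈ Z, ∀ p ∈ P, p • z = z) ∨
    ((∀ p ∈ P, ∀ w ∈ Y, p • w ∈ Y) ∧ ∀ p ∈ P, ∀ w ∈ Y', p • w ∈ Y')
  el : ∀ a ∈ A, a * a = 1
  exact : (cv M (A : Set H)).index = Nat.card A
  atom : ∀ C : Subgroup H, C ≤ A → C ≠ ⊥ → C ≠ A → Nat.card C < (cv M (C : Set H)).index
  nT : ¬ A ≤ o2 (⊤ : Subgroup H)
  AZ : A ≤ o2 (fxr H Z)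
  AY : A ≤ o2 (fxr H Y)
  KH : IsKGroup H

/-- the input in vector form, for an `A` which is exact modulo the kernel -/
structure PreB {C : Type u} [Group C] {M : Type v} [Group M] [MulDistribMulAction C M] (T A J : Subgroup C)
    (Z Y Y' : Subgroup M) : Prop where
  sq : ∀ m : M, m * m = 1
  two : IsPGroup 2 T
  syl : ¬ 2 ∣ T.index
  tZ : ∀ z ∈ Z, ∀ t ∈ T, t • z = z
  NY : ∀ g ∈ normalizer (T : Set C), ∀ w ∈ Y, g • w ∈ Y
  NY' : ∀ g ∈ normalizer (T : Set C), ∀ w ∈ Y', g • w ∈ Y'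
  ZY' : Z ≤ Y'
  dis : Y ⊓ Y' = ⊥
  cb : (∀ w ∈ Y, (∀ t ∈ T, t • w = w) → ∀ g : C, g • w = w) ∨
    (J ≤ T ∧ normalizer (T : Set C) ≤ normalizer (J : Set C) ∧
      (∀ P : Subgroup C, IsMinPar T P → (∀ z ∈ Z, ∀ p ∈ P, p • z = z) ∨
        (∀ g ∈ P, Odd (orderOf g) → ∀ w ∈ Y, g • w = w) ∨ P ≤ normalizer (J : Set C)) ∧ BadG T J Z Y)
  par : ∀ P : Subgroup C, IsMinPar T P → (∀ z ∈ Z, ∀ p ∈ P, p • z = z) ∨
    ((∀ p ∈ P, ∀ w ∈ Y, p • w ∈ Y) ∧ ∀ p ∈ P, ∀ w ∈ Y', p • w ∈ Y')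
  el : ∀ a ∈ A, a * a = 1
  AZ : A ≤ o2 (fxr C Z)
  AY : A ≤ o2 (fxr C Y)
  /-- `A` is faithful on `⟨Z^C⟩` modulo the kernel -/
  nk : ∀ a ∈ A, (∀ (c : C), ∀ z ∈ Z, a • c • z = c • z) → ∀ m : M, a • m = m
  mv : ∃ a ∈ A, ∃ m : M, a • m ≠ m
  no : ∀ B : Subgroup C, B ≤ A → (fxr C (⊤ : Subgroup M)).relIndex B ≤ (cv M (B : Set C)).index
  le : (cv M (A : Set C)).index ≤ (fxr C (⊤ : Subgroup M)).relIndex A
  KC : IsKGroup C

/-- `InpM` is `InpB` (any `J`) -/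
theorem InpM.inpB {H : Type u} [Group H] {M : Type v} [Group M] [MulDistribMulAction H M] {T A : Subgroup H}
    {Z Y Y' : Subgroup M} (i : InpM T A Z Y Y') (J : Subgroup H) : InpB T A J Z Y Y' where
  sq := i.sq
  two := i.two
  syl := i.syl
  tZ := i.tZ
  NY := i.NY
  NY' := i.NY'
  ZY' := i.ZY'
  dis := i.dis
  cb := Or.inl i.cY
  par := i.par
  el := i.el
  exact := i.exact
  atom := i.atom
  nT := i.nT
  AZ := i.AZ
  AY := i.AY
  KH := i.KH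

end Cfsg.Agent.Omega.KL.StarM
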