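import Cfsg.Agent.Omega.KL.StarD.Def

/-!
# LEMMA MOV (bb #24831 of helper192; #24920 of helper351): the output `SysM` of the front [L1]

`SysM H M T A x y Y₁ Y₂` : `SysB` (= `Two.SysT` without the mover, `O(H) = 1` included), two different `T`-fixed vectors
`x ∈ Y₂`, `y ∈ Y₁`; `N_H(T)` and every `T`-minimal `P` which moves `x` normalise `Y₁` and `Y₂`; some `R ≥ T` moves `x` and
fixes the `T`-fixed vectors of `Y₁ ∩ Y₂`.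
-/

set_option autoImplicit false

namespace Cfsg.Agent.Omega.KL.StarM

open Subgroup Cfsg Cfsg.Agent.ZN Cfsg.Agent.ClassTwoFusion.Quad Cfsg.Agent.Omega.ML.MinFrame
open Cfsg.Agent.MinSimple.MinParabolic (IsMinPar)
open Cfsg.Agent.Omega.KL.StarD (SysB)

universe u v

/-- **The output of [L1].** -/
structure SysM (H : Type u) [Group H] (M : Type v) [Group M] [MulDistribMulAction H M] (T A : Subgroup H)
    (x y : M) (Y₁ Y₂ : Subgroup M) : Prop extends SysB H M T A x where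
  y1 : y ≠ 1
  ty : ∀ t ∈ T, t • y = y
  xy : x ≠ y
  yY : y ∈ Y₁
  xY : x ∈ Y₂
  N₁ : ∀ g ∈ normalizer (T : Set H), ∀ w ∈ Y₁, g • w ∈ Y₁
  N₂ : ∀ g ∈ normalizer (T : Set H), ∀ w ∈ Y₂, g • w ∈ Y₂
  /-- a `T`-minimal `P` fixes `x` or normalises `Y₁` and `Y₂` -/
  par : ∀ P : Subgroup H, IsMinPar T P → (∀ p ∈ P, p • x = x) ∨
    ((∀ p ∈ P, ∀ w ∈ Y₁, p • w ∈ Y₁) ∧ ∀ p ∈ P, ∀ w ∈ Y₂, p • w ∈ Y₂)
  /-- the link -/
  link : ∃ R : Subgroup H, T ≤ R ∧ (∃ r ∈ R, r • x ≠ x) ∧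
    ∀ w ∈ Y₁, w ∈ Y₂ → (∀ t ∈ T, t • w = w) → ∀ r ∈ R, r • w = w

namespace SysM

variable {H : Type u} [Group H] {M : Type v} [Group M] [MulDistribMulAction H M] {T A : Subgroup H}
  {x y : M} {Y₁ Y₂ : Subgroup M}

/-- a `T`-fixed vector `w ≠ 1` of `Y₁ ∩ Y₂` gives a mover -/
theorem mv (h : SysM H M T A x y Y₁ Y₂) {w : M} (w1 : w ≠ 1) (hw₁ : w ∈ Y₁) (hw₂ : w ∈ Y₂)
    (tw : ∀ t ∈ T, t • w = w) : ML.Ex.Two.Mv T x w := by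
  obtain ⟨R, hTR, hmv, hR⟩ := h.link
  exact ⟨h.x1, w1, h.tx, tw, R, hTR, hR w hw₁ hw₂ tw, hmv⟩

/-- so `Two.SysT` -/
theorem sysT (h : SysM H M T A x y Y₁ Y₂) {w : M} (w1 : w ≠ 1) (hw₁ : w ∈ Y₁) (hw₂ : w ∈ Y₂)
    (tw : ∀ t ∈ T, t • w = w) : ML.Ex.Two.SysT H M T A x w :=
  h.toSysB.sysT (h.mv w1 hw₁ hw₂ tw)

end SysM

end Cfsg.Agent.Omega.KL.StarM
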