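import Cfsg.Agent.Omega.KL.Star.CrwB
import Cfsg.Agent.Omega.KL.StarM.Sys

/-!
# LEMMA MOV (bb #24831 of helper192; #24920 of helper351): `SysM` does not exist

`SysM.false_of_exitN` : helper178's LEMMA CRW (`CrwB.le_of_sysB`) with `Y := Y₂` gives `y ∈ Y₂`, with `Y := Y₁ ⊓ Y₂` it gives
`x ∈ Y₁ ⊓ Y₂`; the link `R` fixes `x`, but it moves `x`.
-/

set_option autoImplicit false

namespace Cfsg.Agent.Omega.KL.StarM

open Subgroup Cfsg Cfsg.Agent.ZN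
open Cfsg.Agent.MinSimple.MinParabolic (IsMinPar)
open Cfsg.Agent.Omega.ML.Final (MLK)
open Cfsg.Agent.Omega.ML.Ex.Two (ExitN)

universe u v

namespace SysM

variable {H : Type u} [Group H] [Finite H] {M : Type v} [Group M] [Finite M] [MulDistribMulAction H M] {T A : Subgroup H}
  {x y : M} {Y₁ Y₂ : Subgroup M}

/-- the `T`-fixed vectors lie in every member normalised by `N_H(T)` and by the movers of `x` -/
theorem mem_inf_of_mem (ml : MLK.{u, v}) (h2 : ExitN.{u, v}) (h : SysM H M T A x y Y₁ Y₂) {w : M} (w1 : w ≠ 1) (hw₁ : w ∈ Y₁)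
    (hw₂ : w ∈ Y₂) : x ∈ Y₁ ⊓ Y₂ := by
  refine Star.CrwB.le_of_sysB ml h2 h.toSysB (Y := Y₁ ⊓ Y₂) ?_ (fun g hg w hw => ⟨h.N₁ g hg w hw.1, h.N₂ g hg w hw.2⟩)
    ?_ h.tx
  · intro h0
    apply w1
    rw [← mem_bot, ← h0]
    exact ⟨hw₁, hw₂⟩
  · rintro P hP ⟨p, hp, hpx⟩ g hg w hw
    rcases h.par P hP with h3 | ⟨h3, h4⟩
    · exact absurd (h3 p hp) hpx
    · exact ⟨h3 g hg w hw.1, h4 g hg w hw.2⟩

/-- **`SysM` does not exist.** -/
theorem false_of_exitN (ml : MLK.{u, v}) (h2 : ExitN.{u, v}) (h : SysM H M T A x y Y₁ Y₂) : False := by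
  have hx2 : Y₂ ≠ ⊥ := by
    intro h0
    apply h.x1
    rw [← mem_bot, ← h0]
    exact h.xY
  have hy : y ∈ Y₂ := by
    refine Star.CrwB.le_of_sysB ml h2 h.toSysB (Y := Y₂) hx2 h.N₂ ?_ h.ty
    rintro P hP ⟨p, hp, hpx⟩ g hg w hw
    rcases h.par P hP with h3 | ⟨-, h4⟩
    · exact absurd (h3 p hp) hpx
    · exact h4 g hg w hw
  have hx := h.mem_inf_of_mem ml h2 h.y1 h.yY hy
  obtain ⟨R, -, ⟨r, hr, hrx⟩, hR⟩ := h.link
  exact hrx (hR x hx.1 hx.2 h.tx r hr)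

end SysM

end Cfsg.Agent.Omega.KL.StarM
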