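import Cfsg.Agent.Omega.KL.StarM.MainC
import Cfsg.Agent.Omega.KL.Star.Grp

/-!
# Piece [C'] of bb #25374: the plug on the level of subgroups

* `PreC T A Z Y` : the input `InpC` for an action which need not be faithful and an `A` which is exact modulo the kernel;
  **`PreC.inp`** : `InpC` for `C / C_C(M)` and an atom inside the image of `A`;
* `GInC C T A M Z Y` : the input on the level of subgroups of `G`: `C` normalises the elementary abelian `M`, `T` is a
  Sylow 2-subgroup of `C`;  **`GInC.false_of`**, **`GInC.false`**.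
-/

set_option autoImplicit false
set_option linter.unusedSectionVars false

namespace Cfsg.Agent.Omega.KL.StarM

open Subgroup Cfsg Cfsg.Agent.Omega.MinPar
open Cfsg.Agent.ZN (o2)
open Cfsg.Agent.ClassTwoFusion.Quad Cfsg.Agent.Omega.ML.MinFrame
open Cfsg.Agent.MinSimple.MinParabolic (IsMinPar)
open Cfsg.Agent.Omega.NoFF.Basic (mem_conj conj_le_iff V_le Z_le_V)
open Cfsg.Agent.MinSimple.VModule (le_o2 o2_isPGroup o2_le le_normalizer_o2 o2_le_of_sylow oddGen oddGen_def)
open Cfsg.Agent.Omega.KL.Quo (norm_lift exists_minPar)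
open Cfsg.Agent.Omega.KL.TwoS (exists_odd actX)
open Cfsg.Agent.Omega.ML.Ex.Two (ExitN)
open scoped Pointwise

universe u v

/-- the input `InpC` for `C` acting on `M`, with an `A` which is exact modulo the kernel -/
structure PreC {C : Type u} [Group C] {M : Type v} [Group M] [MulDistribMulAction C M] (T A : Subgroup C)
    (Z Y : Subgroup M) : Prop where
  sq : ∀ m : M, m * m = 1
  two : IsPGroup 2 T
  syl : ¬ 2 ∣ T.index
  tZ : ∀ z ∈ Z, ∀ t ∈ T, t • z = z
  NZ : ∀ g ∈ normalizer (T : Set C), ∀ z ∈ Z, g • z ∈ Z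
  NY : ∀ g ∈ normalizer (T : Set C), ∀ w ∈ Y, g • w ∈ Y
  cY : ∀ w ∈ Y, (∀ t ∈ T, t • w = w) → ∀ g : C, g • w = w
  par : ∀ P : Subgroup C, IsMinPar T P → (∀ z ∈ Z, ∀ p ∈ P, p • z = z) ∨
    ((∀ p ∈ P, ∀ w ∈ Y, p • w ∈ Y) ∧
      ∀ g ∈ P, Odd (orderOf g) → ∀ z ∈ Z, ∀ y ∈ Y, g • (z * y) = z * y → g • z = z)
  el : ∀ a ∈ A, a * a = 1
  AZ : A ≤ o2 (fxr C Z)
  AY : A ≤ o2 (fxr C Y)
  /-- `A` is faithful on `⟨C_M(T)^C⟩` modulo the kernel -/
  nk : ∀ a ∈ A, (∀ (c : C) (z : M), (∀ t ∈ T, t • z = z) → a • c • z = c • z) → ∀ m : M, a • m = m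
  mv : ∃ a ∈ A, ∃ m : M, a • m ≠ m
  no : ∀ B : Subgroup C, B ≤ A → (fxr C (⊤ : Subgroup M)).relIndex B ≤ (cv M (B : Set C)).index
  le : (cv M (A : Set C)).index ≤ (fxr C (⊤ : Subgroup M)).relIndex A
  KC : IsKGroup C

section pre

variable {C : Type u} [Group C] [Finite C] {M : Type v} [Group M] [Finite M] [MulDistribMulAction C M]
  {T A : Subgroup C} {Z Y : Subgroup M}

theorem PreC.inp (h : PreC T A Z Y) :
    ∃ (H : Type u) (_ : Group H) (_ : Finite H) (_ : MulDistribMulAction H M) (T' A' : Subgroup H),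
      InpC T' A' Z Y := by
  have htriv : ∀ k ∈ fxr C (⊤ : Subgroup M), ∀ m : M, k • m = m := fun k hk m => hk m (mem_top m)
  have hN : (fxr C (⊤ : Subgroup M)).Normal := fxr_normal fun _ _ _ => mem_top _
  set N := fxr C (⊤ : Subgroup M) with hNdef
  let _ : MulDistribMulAction (C ⧸ N) M := quoAct N htriv
  let π : C →* C ⧸ N := QuotientGroup.mk' N
  have hπ : Function.Surjective π := QuotientGroup.mk'_surjective N
  have he : ∀ (g : C) (v : M), π g • v = g • v := fun _ _ => rfl
  have hker : ∀ k : C, (∀ v : M, k • v = v) → π k = 1 := fun k hk =>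
    (QuotientGroup.eq_one_iff k).2 fun v _ => hk v
  have hker2 : ∀ k : C, π k = 1 → ∀ v : M, k • v = v := fun k hk v =>
    (QuotientGroup.eq_one_iff k).1 hk v (mem_top v)
  -- stabilisers
  have hfx : ∀ Y' : Subgroup M, (fxr C Y').map π = fxr (C ⧸ N) Y' := by
    intro Y'
    ext g
    constructor
    · rintro ⟨c, hc, rfl⟩
      exact hc
    · intro hg
      obtain ⟨c, rfl⟩ := hπ g
      exact ⟨c, hg, rfl⟩
  have ho2 : ∀ S : Subgroup C, A ≤ o2 S → A.map π ≤ o2 (S.map π) := by
    intro S hS
    refine (map_mono hS).trans (le_o2 (map_mono (o2_le _)) ((o2_isPGroup _).map π) ?_)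
    exact (map_mono (le_normalizer_o2 _)).trans (le_normalizer_map π)
  have hy : A.map π ≤ o2 (fxr (C ⧸ N) Y) := by
    rw [← hfx]
    exact ho2 _ h.AY
  have hz : A.map π ≤ o2 (fxr (C ⧸ N) Z) := by
    rw [← hfx]
    exact ho2 _ h.AZ
  have hsyl : ¬ 2 ∣ (T.map π).index := fun h2 => h.syl (h2.trans (index_map_dvd T hπ))
  have hKH : IsKGroup (C ⧸ N) := ML.Final.sec_KG.quo C h.KC N
  have hel : ∀ a ∈ A.map π, a * a = 1 := by
    rintro _ ⟨a, ha, rfl⟩
    rw [← map_mul, h.el a ha, map_one]
  -- `A.map π` is faithful on `⟨C_M(T)^C⟩`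
  have hfa : ∀ g ∈ A.map π, (∀ (c : C ⧸ N) (z : M), (∀ t ∈ T.map π, t • z = z) → g • c • z = c • z) → g = 1 := by
    rintro _ ⟨a, ha, rfl⟩ hg
    exact hker a (h.nk a ha fun c z hz => hg (π c) z (by rintro _ ⟨t, ht, rfl⟩; exact hz t ht))
  -- (NO)
  have hcv : ∀ B : Subgroup C, cv M (B.map π : Set (C ⧸ N)) = cv M (B : Set C) := by
    intro B
    ext v
    constructor
    · exact fun hv a ha => hv _ ⟨a, ha, rfl⟩
    · rintro hv _ ⟨a, ha, rfl⟩
      exact hv a ha
  have hcard : ∀ B : Subgroup C, Nat.card (B.map π) = N.relIndex B := by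
    intro B
    rw [← relIndex_bot_left, ← relIndex_comap, MonoidHom.comap_bot, QuotientGroup.ker_mk']
  have hno : ∀ B : Subgroup (C ⧸ N), B ≤ A.map π → Nat.card B ≤ (cv M (B : Set (C ⧸ N))).index := by
    intro B hB
    have e : (A ⊓ B.comap π).map π = B := by
      apply le_antisymm
      · rintro _ ⟨a, ha, rfl⟩
        exact ha.2
      · intro g hg
        obtain ⟨a, ha, rfl⟩ := hB hg
        exact ⟨a, ⟨ha, hg⟩, rfl⟩
    rw [← e, hcv, hcard]
    exact h.no _ inf_le_left
  have hex : (cv M (A.map π : Set (C ⧸ N))).index = Nat.card (A.map π) := by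
    refine le_antisymm ?_ (hno _ le_rfl)
    rw [hcv, hcard]
    exact h.le
  have hA1 : A.map π ≠ ⊥ := by
    intro h1
    obtain ⟨a, ha, m, hm⟩ := h.mv
    apply hm
    refine hker2 a ?_ m
    rw [← mem_bot, ← h1]
    exact ⟨a, ha, rfl⟩
  -- an atom
  obtain ⟨B, ⟨hBA, hB1, hBe⟩, hmin⟩ : ∃ B : Subgroup (C ⧸ N), (B ≤ A.map π ∧ B ≠ ⊥ ∧
      (cv M (B : Set (C ⧸ N))).index = Nat.card B) ∧ ∀ B' : Subgroup (C ⧸ N), (B' ≤ A.map π ∧ B' ≠ ⊥ ∧
      (cv M (B' : Set (C ⧸ N))).index = Nat.card B') → B' ≤ B → B' = B := by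
    obtain ⟨B, hB⟩ := (Set.toFinite {B : Subgroup (C ⧸ N) | B ≤ A.map π ∧ B ≠ ⊥ ∧
      (cv M (B : Set (C ⧸ N))).index = Nat.card B}).exists_minimal ⟨A.map π, le_rfl, hA1, hex⟩
    exact ⟨B, hB.prop, fun B' hB' hle => le_antisymm hle (hB.le_of_le hB' hle)⟩
  have htZ : ∀ z ∈ Z, ∀ t ∈ T.map π, t • z = z := by
    rintro z hz _ ⟨t, ht, rfl⟩
    exact h.tZ z hz t ht
  refine ⟨C ⧸ N, inferInstance, inferInstance, inferInstance, T.map π, B, ?_⟩
  exact
    { sq := h.sq
      two := h.two.map π
      syl := hsyl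
      tZ := htZ
      NZ := by
        intro g hg z hz
        obtain ⟨t, ht, n, hn, rfl⟩ := norm_lift π hπ h.two h.syl hg
        rw [he, mul_smul]
        exact h.NZ t (le_normalizer ht) _ (h.NZ n hn z hz)
      NY := by
        intro g hg z hz
        obtain ⟨t, ht, n, hn, rfl⟩ := norm_lift π hπ h.two h.syl hg
        rw [he, mul_smul]
        exact h.NY t (le_normalizer ht) _ (h.NY n hn z hz)
      cY := by
        intro w hw tw g
        obtain ⟨c, rfl⟩ := hπ g
        exact h.cY w hw (fun t ht => tw (π t) ⟨t, ht, rfl⟩) c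
      par := by
        intro P hP
        obtain ⟨R, hR, rfl⟩ := exists_minPar π hπ hP
        rcases h.par R hR with h1 | ⟨h1, h2⟩
        · left
          rintro z hz _ ⟨r, hr, rfl⟩
          exact h1 z hz r hr
        · right
          constructor
          · rintro _ ⟨r, hr, rfl⟩ w hw
            exact h1 r hr w hw
          · intro g hg hog z hz y hy he'
            obtain ⟨c, hc, hco, rfl⟩ := exists_odd π hg hog
            exact h2 c hc hco z hz y hy he'
      el := fun a ha => hel a (hBA ha)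
      exact := hBe
      atom := by
        intro B' hB' hB1' hne
        refine lt_of_le_of_ne (hno B' (hB'.trans hBA)) fun h1 => hne ?_
        exact hmin B' ⟨hB'.trans hBA, hB1', h1.symm⟩ hB'
      nT := by
        -- `O₂(H)` centralises `⟨C_M(T)^H⟩`
        intro hle
        apply hB1
        rw [eq_bot_iff]
        intro b hb
        rw [mem_bot]
        refine hfa b (hBA hb) fun c z hz => ?_
        have h1 : c⁻¹ * b * c ∈ o2 (⊤ : Subgroup (C ⧸ N)) := by
          have := (mem_normalizer_iff.1 (le_normalizer_o2 (⊤ : Subgroup (C ⧸ N)) (mem_top c⁻¹)) b).1 (hle hb)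
          rwa [inv_inv] at this
        have h2 : o2 (⊤ : Subgroup (C ⧸ N)) ≤ T.map π :=
          o2_le_of_sylow (h.two.map π) (by rwa [relIndex_top_right])
        have h3 := hz _ (h2 h1)
        rw [mul_smul, mul_smul, inv_smul_eq_iff] at h3
        exact h3
      AZ := hBA.trans hz
      AY := hBA.trans hy
      KH := hKH }

end pre

/-! ### Subgroups -/

/-- **the input on the level of subgroups of `G`** -/
structure GInC {G : Type u} [Group G] (C T A M Z Y : Subgroup G) : Prop where
  CM : C ≤ normalizer (M : Set G)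
  sqM : ∀ m ∈ M, m ^ 2 = 1
  TC : T ≤ C
  two : IsPGroup 2 T
  syl : ¬ 2 ∣ T.relIndex C
  ZM : Z ≤ M
  YM : Y ≤ M
  TZ : T ≤ centralizer (Z : Set G)
  NZ : C ⊓ normalizer (T : Set G) ≤ normalizer (Z : Set G)
  NY : C ⊓ normalizer (T : Set G) ≤ normalizer (Y : Set G)
  /-- `C_Y(T)` is centralised by `C` -/
  cY : Y ⊓ centralizer (T : Set G) ≤ centralizer (C : Set G)
  /-- a `T`-minimal `P ≤ C` centralises `Z`, or it normalises `Y` and separates `Z` from `Y` -/
  par : ∀ P : Subgroup G, IsMinPar T P → P ≤ C → P ≤ centralizer (Z : Set G) ∨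
    (P ≤ normalizer (Y : Set G) ∧
      ∀ g ∈ P, Odd (orderOf g) → ∀ z ∈ Z, ∀ y ∈ Y, g * (z * y) = z * y * g → g * z = z * g)
  AT : A ≤ T
  sqA : ∀ a ∈ A, a ^ 2 = 1
  AZ : A ≤ o2 (C ⊓ centralizer (Z : Set G))
  AY : A ≤ o2 (C ⊓ centralizer (Y : Set G))
  /-- `A` is faithful on `⟨C_M(T)^C⟩` modulo `C(M)` -/
  nk : A ⊓ centralizer (NoFF.Basic.V (M ⊓ centralizer (T : Set G)) C : Set G) ≤ centralizer (M : Set G)
  mv : ¬ A ≤ centralizer (M : Set G)
  no : ∀ B : Subgroup G, B ≤ A →
    (centralizer (M : Set G)).relIndex B ≤ (centralizer (B : Set G)).relIndex M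
  le : (centralizer (A : Set G)).relIndex M ≤ (centralizer (M : Set G)).relIndex A
  K : IsKGroup C

namespace GInC

variable {G : Type u} [Group G] {C T A M Z Y : Subgroup G}

theorem preC [Finite G] (h : GInC C T A M Z Y) :
    letI := actX h.CM
    PreC (T.subgroupOf C) (A.subgroupOf C) (Z.subgroupOf M) (Y.subgroupOf M) := by
  let := actX h.CM
  change PreC (T.subgroupOf C) (A.subgroupOf C) (Z.subgroupOf M) (Y.subgroupOf M)
  have hAC : A ≤ C := h.AT.trans h.TC
  have hsm : ∀ (c : C) (m : M), ((c • m : M) : G) = c * m * (c : G)⁻¹ := fun _ _ => rfl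
  have hfix : ∀ (c : C) (m : M), c • m = m ↔ (m : G) * c = c * m := by
    intro c m
    rw [Subtype.ext_iff, hsm, mul_inv_eq_iff_eq_mul, eq_comm]
  have hfxr : ∀ Y : Subgroup G, Y ≤ M → fxr C (Y.subgroupOf M) = (centralizer (Y : Set G)).subgroupOf C := by
    intro Y hY
    ext c
    rw [mem_subgroupOf, mem_centralizer_iff]
    constructor
    · intro h y hy
      exact (hfix c ⟨y, hY hy⟩).1 (h _ (mem_subgroupOf.2 hy))
    · intro h y hy
      exact (hfix c y).2 (h _ (mem_subgroupOf.1 hy))
  have hfxt : fxr C (⊤ : Subgroup M) = (centralizer (M : Set G)).subgroupOf C := by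
    rw [← hfxr M le_rfl, subgroupOf_self]
  have hcv : ∀ B : Subgroup G, B ≤ C → cv M (B.subgroupOf C : Set C) = (centralizer (B : Set G)).subgroupOf M := by
    intro B hB
    ext m
    rw [mem_subgroupOf, mem_centralizer_iff]
    constructor
    · intro h b hb
      exact ((hfix ⟨b, hB hb⟩ m).1 (h _ (mem_subgroupOf.2 hb))).symm
    · intro h b hb
      exact (hfix b m).2 (h b (mem_subgroupOf.1 hb)).symm
  have hNT : ∀ g : C, g ∈ normalizer ((T.subgroupOf C : Subgroup C) : Set C) → (g : G) ∈ normalizer (T : Set G) := by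
    intro g hg
    rw [mem_normalizer_iff] at hg ⊢
    intro t
    constructor
    · intro ht
      exact (hg ⟨t, h.TC ht⟩).1 ht
    · intro ht
      have h1 : t ∈ C := by
        have h2 := C.mul_mem (C.mul_mem (C.inv_mem g.2) (h.TC ht)) g.2
        have e : (g : G)⁻¹ * (g * t * (g : G)⁻¹) * g = t := by group
        rwa [e] at h2
      exact (hg ⟨t, h1⟩).2 ht
  exact
    { sq := by
        intro m
        apply Subtype.ext
        have h1 := h.sqM m m.2
        rw [pow_two] at h1
        exact h1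
      two := h.two.comap_of_injective C.subtype C.subtype_injective
      syl := h.syl
      tZ := by
        intro z hz t ht
        rw [hfix]
        exact mem_centralizer_iff.1 (h.TZ (mem_subgroupOf.1 ht)) z (mem_subgroupOf.1 hz)
      NZ := by
        intro g hg w hw
        refine mem_subgroupOf.2 ?_
        rw [hsm]
        exact (mem_normalizer_iff.1 (h.NZ ⟨g.2, hNT g hg⟩) _).1 (mem_subgroupOf.1 hw)
      NY := by
        intro g hg w hw
        refine mem_subgroupOf.2 ?_
        rw [hsm]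
        exact (mem_normalizer_iff.1 (h.NY ⟨g.2, hNT g hg⟩) _).1 (mem_subgroupOf.1 hw)
      cY := by
        intro w hw tw g
        rw [hfix]
        have h1 : (w : G) ∈ centralizer (T : Set G) := by
          rw [mem_centralizer_iff]
          intro t ht
          exact ((hfix ⟨t, h.TC ht⟩ w).1 (tw _ (mem_subgroupOf.2 ht))).symm
        exact (mem_centralizer_iff.1 (h.cY ⟨mem_subgroupOf.1 hw, h1⟩) g g.2).symm
      par := by
        intro P hP
        have hR := Plug.minPar_map h.TC hP
        rcases h.par _ hR (map_subtype_le P) with h1 | ⟨h1, h2⟩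
        · left
          intro z hz p hp
          rw [hfix]
          exact mem_centralizer_iff.1 (h1 (mem_map_of_mem C.subtype hp)) z (mem_subgroupOf.1 hz)
        · right
          constructor
          · intro p hp w hw
            refine mem_subgroupOf.2 ?_
            rw [hsm]
            exact (mem_normalizer_iff.1 (h1 (mem_map_of_mem C.subtype hp)) _).1 (mem_subgroupOf.1 hw)
          · intro g hg hog z hz y hy he
            rw [hfix] at he ⊢
            exact (h2 g (mem_map_of_mem C.subtype hg) (by rwa [orderOf_coe]) z (mem_subgroupOf.1 hz) y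
              (mem_subgroupOf.1 hy) he.symm).symm
      el := by
        intro a ha
        apply Subtype.ext
        have h1 := h.sqA a (mem_subgroupOf.1 ha)
        rw [pow_two] at h1
        exact h1
      AZ := by
        refine Plug.sub_o2 (S := C ⊓ centralizer (Z : Set G)) (fun c => ?_) h.AZ
        rw [hfxr Z h.ZM, mem_subgroupOf]
        exact ⟨fun hc => ⟨c.2, hc⟩, fun hc => hc.2⟩
      AY := by
        refine Plug.sub_o2 (S := C ⊓ centralizer (Y : Set G)) (fun c => ?_) h.AY
        rw [hfxr Y h.YM, mem_subgroupOf]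
        exact ⟨fun hc => ⟨c.2, hc⟩, fun hc => hc.2⟩
      nk := by
        intro a ha hc m
        rw [hfix]
        have h1 : NoFF.Basic.V (M ⊓ centralizer (T : Set G)) C ≤ centralizer ({(a : G)} : Set G) := by
          refine V_le fun c hcC => ?_
          intro x hx
          rw [mem_conj] at hx
          have h2 := hc ⟨c, hcC⟩ ⟨_, hx.1⟩ fun t ht => by
            rw [hfix]
            exact (mem_centralizer_iff.1 hx.2 t (mem_subgroupOf.1 ht)).symm
          have h3 : ((⟨c, hcC⟩ : C) • (⟨_, hx.1⟩ : M) : M) = (⟨x, by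
              have := ((⟨c, hcC⟩ : C) • (⟨_, hx.1⟩ : M) : M).2
              have e : c * (c⁻¹ * x * c) * c⁻¹ = x := by group
              rw [hsm] at this
              change c * (c⁻¹ * x * c) * c⁻¹ ∈ M at this
              rwa [e] at this⟩ : M) := by
            apply Subtype.ext
            change c * (c⁻¹ * x * c) * c⁻¹ = x
            group
          rw [h3, hfix] at h2
          rw [mem_centralizer_singleton_iff]
          exact h2
        have h2 : (a : G) ∈ centralizer (NoFF.Basic.V (M ⊓ centralizer (T : Set G)) C : Set G) := by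
          rw [mem_centralizer_iff]
          intro v hv
          exact mem_centralizer_singleton_iff.1 (h1 hv)
        exact mem_centralizer_iff.1 (h.nk ⟨mem_subgroupOf.1 ha, h2⟩) m m.2
      mv := by
        by_contra hc
        push Not at hc
        apply h.mv
        intro a ha
        refine mem_centralizer_iff.2 fun m hm => ?_
        exact (hfix ⟨a, hAC ha⟩ ⟨m, hm⟩).1 (hc _ (mem_subgroupOf.2 ha) _)
      no := by
        intro B hB
        set B' : Subgroup G := B.map C.subtype with hB'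
        have hBB : B'.subgroupOf C = B := comap_map_eq_self_of_injective C.subtype_injective B
        have hB'A : B' ≤ A := by
          rintro _ ⟨b, hb, rfl⟩
          exact mem_subgroupOf.1 (hB hb)
        have h1 := h.no B' hB'A
        rw [hfxt, ← hBB, hcv B' (hB'A.trans hAC), relIndex_subgroupOf (hB'A.trans hAC)]
        exact h1
      le := by
        rw [hfxt, hcv A hAC, relIndex_subgroupOf hAC]
        exact h.le
      KC := h.K }

/-- **[C'] on the level of subgroups** -/
theorem false_of [Finite G] (hM : ML.Final.MLK.{u, u}) (hE : ExitN.{u, u}) (h : GInC C T A M Z Y) : False := by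
  let := actX h.CM
  obtain ⟨X, _, _, _, T', A', h1⟩ := h.preC.inp
  exact h1.false_of hM hE

/-- closed over (ML) -/
theorem false_ml [Finite G] (hM : ML.Final.MLK.{u, u}) (h : GInC C T A M Z Y) : False :=
  h.false_of hM ML.Ex.KnownDone.exitN

end GInC

end Cfsg.Agent.Omega.KL.StarM
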