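import Cfsg.Agent.Omega.KL.StarD.Main
import Cfsg.Agent.Omega.KL.Star.CrwB
import Cfsg.Agent.Omega.ML.Ex.KnownDone

/-!
# KL* with `C_Y(T)` fixed by `H`, one parabolic-invariant subgroup `Y` (piece [C'] of bb #25374)

`H` acts on the elementary abelian 2-group `M`, `T` is a Sylow 2-subgroup, `Z ≤ C_M(T)`, `N_H(T)` normalises `Z` and `Y`,
the `T`-fixed vectors of `Y` are fixed by `H`; every `T`-minimal `P` fixes `Z` pointwise, or it normalises `Y` and an
element of odd order of `P` which fixes `z * y` (`z ∈ Z`, `y ∈ Y`) fixes `z`.  `A` is an exact atom on `M`, `A ≰ O₂(H)`,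
`A ≤ O₂(C_H(Z))` and `A ≤ O₂(C_H(Y))`.

* `false_of_lb` : the end over `LB` (helper815's `exists_sysM_of`, then helper178's `CrwB.le_of_sysB`);
* `InpC T A Z Y` : this situation;  **`InpC.false_of`**.
-/

set_option autoImplicit false

namespace Cfsg.Agent.Omega.KL.StarM

open Subgroup Cfsg Cfsg.Agent.ZN Cfsg.Agent.ClassTwoFusion.Quad
open Cfsg.Agent.Omega.ML.MinFrame hiding comm_of_sq
open Cfsg.Agent.Omega.ML.Final Cfsg.Agent.Omega.NO3S.EMany.Low
open Cfsg.Agent.Omega.KL.Star.Core Cfsg.Agent.Omega.KL.StarD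
open Cfsg.Agent.MinSimple.VModule (o2_isPGroup o2_le le_o2 le_normalizer_o2 o2_le_of_sylow oddGen oddGen_le oddGen_def
  mem_oddGen le_normalizer_oddGen oddGen_le_of_sup)
open Cfsg.Agent.MinSimple.MinParabolic (IsMinPar le_of_forall)
open Cfsg.Agent.Omega.ML.Ex.Two (ExitN)

universe u v

/-- **The input**: side 2 of the pair `(C_G(e), C_G(Z₁))`. -/
structure InpC {H : Type u} [Group H] {M : Type v} [Group M] [MulDistribMulAction H M] (T A : Subgroup H)
    (Z Y : Subgroup M) : Prop where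
  sq : ∀ m : M, m * m = 1
  two : IsPGroup 2 T
  syl : ¬ 2 ∣ T.index
  tZ : ∀ z ∈ Z, ∀ t ∈ T, t • z = z
  NZ : ∀ g ∈ normalizer (T : Set H), ∀ z ∈ Z, g • z ∈ Z
  NY : ∀ g ∈ normalizer (T : Set H), ∀ w ∈ Y, g • w ∈ Y
  /-- the `T`-fixed vectors of `Y` are fixed by `H` -/
  cY : ∀ w ∈ Y, (∀ t ∈ T, t • w = w) → ∀ g : H, g • w = w
  /-- a `T`-minimal `P` fixes `Z` pointwise, or it normalises `Y` and separates `Z` from `Y` -/
  par : ∀ P : Subgroup H, IsMinPar T P → (∀ z ∈ Z, ∀ p ∈ P, p • z = z) ∨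
    ((∀ p ∈ P, ∀ w ∈ Y, p • w ∈ Y) ∧
      ∀ g ∈ P, Odd (orderOf g) → ∀ z ∈ Z, ∀ y ∈ Y, g • (z * y) = z * y → g • z = z)
  el : ∀ a ∈ A, a * a = 1
  exact : (cv M (A : Set H)).index = Nat.card A
  atom : ∀ C : Subgroup H, C ≤ A → C ≠ ⊥ → C ≠ A → Nat.card C < (cv M (C : Set H)).index
  nT : ¬ A ≤ o2 (⊤ : Subgroup H)
  AZ : A ≤ o2 (fxr H Z)
  AY : A ≤ o2 (fxr H Y)
  KH : IsKGroup H

section out

variable {H : Type u} [Group H] [Finite H] {M : Type v} [Group M] [Finite M] [MulDistribMulAction H M]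
  {T A : Subgroup H}

/-- **The end over `LB`** -/
theorem false_of_lb (h : LB H M T A) (hM : MLK.{u, v}) (hE : ExitN.{u, v}) {x : M} (tx : ∀ t ∈ T, t • x = x)
    {Y : Subgroup M} (NY : ∀ g ∈ normalizer (T : Set H), ∀ w ∈ Y, g • w ∈ Y)
    (cY : ∀ w ∈ Y, (∀ t ∈ T, t • w = w) → ∀ g : H, g • w = w)
    (par : ∀ P : Subgroup H, IsMinPar T P → (∀ p ∈ P, p • x = x) ∨
      ((∀ p ∈ P, ∀ w ∈ Y, p • w ∈ Y) ∧
        ∀ g ∈ P, Odd (orderOf g) → ∀ y ∈ Y, g • (x * y) = x * y → g • x = x))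
    (hYn : ¬ ∀ g : H, ∀ w ∈ Y, g • w ∈ Y)
    (mv : ∃ P : Subgroup H, IsMinPar T P ∧ ∃ p ∈ P, p • x ≠ x) : False := by
  have hx : ¬ ∀ g : H, g • x = x := by
    obtain ⟨P, -, p, -, hp⟩ := mv
    exact fun hc => hp (hc p)
  have hcomm := comm_of_sq h.sq
  have TY : ∀ t ∈ T, ∀ w ∈ Y, t • w ∈ Y := fun t ht => NY t (le_normalizer ht)
  have hPodd : ∀ P : Subgroup H, IsMinPar T P → oddGen P ⊔ T = P := fun P hP => oddGen_sup hP.le
    fun h2 => h.syl (h2.trans (relIndex_dvd_index_of_le hP.le))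
  have hHodd : oddGen (⊤ : Subgroup H) ⊔ T = ⊤ := oddGen_sup le_top (by rw [relIndex_top_right]; exact h.syl)
  have hY : ¬ ∀ g : H, Odd (orderOf g) → ∀ w ∈ Y, g • w = w := by
    intro hc
    apply hYn
    have h2 : (⊤ : Subgroup H) ≤ st H Y := by
      rw [← hHodd]
      refine sup_le ?_ (le_st TY)
      refine le_trans (b := fxr H Y) ?_ (le_st fun g hg w hw => by rw [hg w hw]; exact hw)
      rw [oddGen_def, closure_le]
      rintro g ⟨-, hgo⟩ w hw
      exact hc g hgo w hw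
    exact fun g w hw => (mem_st.1 (h2 (mem_top g)) w).2 hw
  -- the section
  obtain ⟨x0, h0, hx1⟩ := exists_fix_coset (T := T) (R := ⊤) h.sq (by rw [relIndex_top_right]; exact h.syl) tx
    (I := cmm M A) (fun g _ => h.orb_eq tx g)
  have hs : ∀ g : H, g • (x0 * x⁻¹) = x0 * x⁻¹ ↔ g • x = x := fun g => by
    rw [smul_mul', smul_inv', h0 g (mem_top g), mul_right_inj, inv_inj]
  set x1 : M := x0 * x⁻¹ with hx1def
  have tx1 : ∀ t ∈ T, t • x1 = x1 := fun t ht => (hs t).2 (tx t ht)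
  have mx1 : ¬ ∀ g : H, g • x1 = x1 := fun hc => hx fun g => (hs g).1 (hc g)
  obtain ⟨H', i1, i2, N, i3, i4, i5, π, f, A', o⟩ := h.exists_out hM tx1 mx1 hx1
  have hfx : f ⟨x1, hx1⟩ ≠ 1 := by
    rw [Ne, o.ker]
    exact fun hc => mx1 fun g => h.fix_of_cvKm tx1 hc g
  have htx : ∀ t ∈ T.map π, t • f ⟨x1, hx1⟩ = f ⟨x1, hx1⟩ := by
    rintro _ ⟨t, ht, rfl⟩
    rw [← o.eqv t ⟨x1, hx1⟩]
    exact congrArg f (Subtype.ext (tx1 t ht))
  have hwz : (wz M A h.sq).Normal := normal_of_sq h.sq _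
  have hfix : ∀ g : H, ∀ w : M, ∀ hw : w ∈ cmm M A, π g • f ⟨w, hw⟩ = f ⟨w, hw⟩ ↔
      (g • w) * w⁻¹ ∈ cv M (Km A : Set H) := by
    intro g w hw
    rw [← o.eqv g ⟨w, hw⟩, ← mul_inv_eq_one, ← map_inv, ← map_mul, o.ker]
    exact Iff.rfl
  -- the image of `Y`
  let Y₁ : Subgroup N := ((Y ⊔ wz M A h.sq).subgroupOf (cmm M A)).map f
  have him : ∀ g : H, (∀ w ∈ Y, g • w ∈ Y) → ∀ v ∈ Y₁, π g • v ∈ Y₁ := by
    rintro g hg _ ⟨w, hw, rfl⟩
    rw [← o.eqv g w]
    refine ⟨_, ?_, rfl⟩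
    obtain ⟨a, ha, w0, hw0, haw⟩ := mem_sup_of_normal_right.1 (show (w : M) ∈ Y ⊔ wz M A h.sq from hw)
    change g • (w : M) ∈ Y ⊔ wz M A h.sq
    rw [← haw, smul_mul']
    exact mul_mem (le_sup_left (a := Y) (hg a ha)) (le_sup_right (a := Y) (smul_mem_wz g hw0))
  -- the second vector
  obtain ⟨u, ⟨hu1, hu2⟩, hu3⟩ := exists_vec h TY hY
  have hY₁ : Y₁ ≠ ⊥ := by
    intro h1
    have h2 : f ⟨u, hu2⟩ ∈ Y₁ := ⟨⟨u, hu2⟩, hu1, rfl⟩
    rw [h1, mem_bot, o.ker] at h2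
    exact hu3 h2
  obtain ⟨u', ⟨⟨w, hwU⟩, hwE, rfl⟩, hu'1, tu'⟩ := exists_fix o.lb.sq o.lb.two (W := Y₁) (by
      rintro _ ⟨t, ht, rfl⟩ v hv
      exact him t (TY t ht) v hv) hY₁
  obtain ⟨y, hy, w0, hw0, hyw⟩ := mem_sup_of_normal_right.1 (show w ∈ Y ⊔ wz M A h.sq from hwE)
  have hKodd : ∀ g : H, Odd (orderOf g) → g ∈ Km A := fun g hg => mem_of_odd h.two h.gen hg
  -- an element of odd order which centralises `y` fixes `y w₀`
  have su : ∀ g : H, Odd (orderOf g) → (∀ w ∈ Y, g • w = w) → π g • f ⟨w, hwU⟩ = f ⟨w, hwU⟩ := by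
    intro g hg hc
    rw [hfix]
    have e : g • w * w⁻¹ = (g • w0) * w0⁻¹ := by
      rw [← hyw, smul_mul', hc y hy, mul_inv_rev, hcomm y]
      calc g • w0 * y * (w0⁻¹ * y⁻¹) = g • w0 * (y * w0⁻¹) * y⁻¹ := by group
        _ = g • w0 * (w0⁻¹ * y) * y⁻¹ := by rw [hcomm y w0⁻¹]
        _ = _ := by group
    rw [e]
    exact hw0 g (hKodd g hg)
  have parY1 : ∀ P : Subgroup H, IsMinPar T P → (∀ p ∈ P, p • x1 = x1) ∨ ∀ p ∈ P, ∀ w ∈ Y, p • w ∈ Y :=
    fun P hP => (par P hP).imp (fun h1 p hp => (hs p).2 (h1 p hp)) And.left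
  have hnmax := nmax_of h o hx1 tx1 mx1 fun P hP => (parY1 P hP).imp id fun h1 h2 =>
    hYn fun g w hw => h1 g (h2 ▸ mem_top g) w hw
  have hodd : ∀ K : Subgroup H', K.Normal → Odd (Nat.card K) → K = ⊥ := fun K hK hKo =>
    StarD.odd_bot h hM o hx1 tx1 mx1 hnmax NY cY parY1 hu'1 su hK hKo
  -- the elements of odd order fix `wz`
  have hcw : cv M (Km A : Set H) ≤ wz M A h.sq := by
    intro m hm k hk
    rw [hm k hk, mul_inv_cancel]
    exact one_mem _
  have hwzo : ∀ m ∈ wz M A h.sq, ∀ g : H, Odd (orderOf g) → g • m = m := fun m hm g hg =>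
    fix_of_odd h.sq hg (hm g (hKodd g hg) g (hKodd g hg))
  have hx0w : x0 ∈ wz M A h.sq := fun k _ => by rw [h0 k (mem_top k), mul_inv_cancel]; exact one_mem _
  -- the mover
  obtain ⟨P, hP, p, hp, hpx⟩ := mv
  have hsep := ((par P hP).resolve_left fun h1 => hpx (h1 p hp)).2
  -- `x' ∉ Y₁`
  have hx'Y : f ⟨x1, hx1⟩ ∉ Y₁ := by
    rintro ⟨⟨v, hvU⟩, hvE, hv⟩
    obtain ⟨y1, hy1, w1, hw1, hvw⟩ := mem_sup_of_normal_right.1 (show v ∈ Y ⊔ wz M A h.sq from hvE)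
    have hc : x1 * v⁻¹ ∈ cv M (Km A : Set H) := by
      have h2 : f (⟨x1, hx1⟩ * ⟨v, hvU⟩⁻¹) = 1 := by rw [map_mul, map_inv, hv, mul_inv_cancel]
      exact (o.ker _).1 h2
    have hxyw : x * y1 ∈ wz M A h.sq := by
      have e : x * y1 = x0 * (x1 * v⁻¹)⁻¹ * w1⁻¹ := by
        rw [hx1def, ← hvw]
        calc x * y1 = y1 * x := hcomm _ _
          _ = y1 * (x * w1) * w1⁻¹ := by group
          _ = y1 * (w1 * x) * w1⁻¹ := by rw [hcomm x w1]
          _ = (y1 * w1 * x) * x0 * x0⁻¹ * w1⁻¹ := by group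
          _ = x0 * (y1 * w1 * x) * x0⁻¹ * w1⁻¹ := by rw [hcomm (y1 * w1 * x) x0]
          _ = _ := by group
      rw [e]
      exact mul_mem (mul_mem hx0w (inv_mem (hcw hc))) (inv_mem hw1)
    have h2 : P ≤ MulAction.stabilizer H x := by
      rw [← hPodd P hP]
      refine sup_le ?_ fun t ht => tx t ht
      rw [oddGen_def, closure_le]
      rintro g ⟨hgP, hgo⟩
      exact hsep g hgP hgo y1 hy1 (hwzo _ hxyw g hgo)
    exact hpx (h2 hp)
  have hne : f ⟨x1, hx1⟩ ≠ f ⟨w, hwU⟩ := fun he => hx'Y (he ▸ ⟨⟨w, hwU⟩, hwE, rfl⟩)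
  have hB : SysB H' N (T.map π) A' (f ⟨x1, hx1⟩) :=
    { x1 := hfx
      tx := htx
      sq := o.lb.sq
      faith := o.faith
      irr := o.irr
      two := o.lb.two
      syl := o.lb.syl
      AT := o.lb.BT
      el := o.lb.el
      four := four_le o.lb.sq o.faith o.irr o.lb htx tu' hfx hu'1 hne
      exact := o.lb.exact
      atom := o.lb.atom
      low := o.lb.low
      nmax := hnmax
      odd := hodd
      KH := o.lb.KH }
  refine hx'Y (Star.CrwB.le_of_sysB hM hE hB hY₁ ?_ ?_ htx)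
  · intro g hg v hv
    obtain ⟨_, ⟨t, ht, rfl⟩, n, hn, rfl⟩ := KL.GenTool.exists_normalizer_map π o.πs h.two h.syl hg
    rw [mul_smul]
    exact him t (TY t ht) _ (him n (NY n hn) v hv)
  · intro P' hP' hmv
    obtain ⟨P, hPm, rfl⟩ := KL.GenTool.exists_minPar_map π o.πs hP'
    rcases par P hPm with h1 | ⟨h1, -⟩
    · obtain ⟨_, ⟨q, hq, rfl⟩, hqx⟩ := hmv
      refine (hqx ?_).elim
      rw [← o.eqv q ⟨x1, hx1⟩]
      exact congrArg f (Subtype.ext ((hs q).2 (h1 q hq)))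
    · rintro _ ⟨q, hq, rfl⟩ v hv
      exact him q (h1 q hq) v hv

end out

namespace InpC

variable {H : Type u} [Group H] [Finite H] {M : Type v} [Group M] [Finite M] [MulDistribMulAction H M]
  {T A : Subgroup H} {Z Y : Subgroup M}

omit [Finite M] in
theorem AT (i : InpC T A Z Y) : A ≤ T :=
  i.AZ.trans (o2_le_of_sylow i.two fun h2 => i.syl (h2.trans (relIndex_dvd_index_of_le fun t ht z hz => i.tZ z hz t ht)))

/-- **`InpC` is impossible.** -/
theorem false_of (i : InpC T A Z Y) (hM : MLK.{u, v}) (hE : ExitN.{u, v}) : False := by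
  -- `L` minimal
  obtain ⟨L, ⟨hTL, hAL⟩, hmin⟩ : ∃ L : Subgroup H, (T ≤ L ∧ ¬ A ≤ o2 L) ∧
      ∀ R : Subgroup H, (T ≤ R ∧ ¬ A ≤ o2 R) → R ≤ L → R = L := by
    have hfin : {L : Subgroup H | T ≤ L ∧ ¬ A ≤ o2 L}.Finite := Set.toFinite _
    obtain ⟨B, hB⟩ := hfin.exists_minimal ⟨⊤, le_top, i.nT⟩
    exact ⟨B, hB.1, fun C hC hCB => le_antisymm hCB (hB.2 hC hCB)⟩
  have hAT := i.AT
  have hAL' : A ≤ L := hAT.trans hTL
  have e1 : ∀ {C : Subgroup H}, C ≤ L → (C.subgroupOf L).map L.subtype = C := fun {C} hC => by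
    rw [subgroupOf_map_subtype, inf_eq_left.2 hC]
  have hcv : ∀ C : Subgroup L, cv M (C : Set L) = cv M ((C.map L.subtype : Subgroup H) : Set H) := by
    intro C
    ext m
    constructor
    · rintro hm _ ⟨c, hc, rfl⟩
      exact hm c hc
    · exact fun hm c hc => hm _ ⟨c, hc, rfl⟩
  have hcard : ∀ C : Subgroup L, Nat.card (C.map L.subtype) = Nat.card C := fun C =>
    card_map_of_injective L.subtype_injective
  have hlb : LB L M (T.subgroupOf L) (A.subgroupOf L) := by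
    refine ⟨i.sq, i.two.comap_subtype, fun h2 => ?_, fun x hx => hAT hx, fun b hb => Subtype.ext (i.el b hb), ?_, ?_, ?_, ?_,
      sec_KG.sub H i.KH L⟩
    · exact i.syl (h2.trans (relIndex_dvd_index_of_le hTL))
    · rw [hcv, e1 hAL', i.exact, ← hcard, e1 hAL']
    · intro C hC hC1 hCF
      rw [hcv, ← hcard]
      refine i.atom _ ?_ ?_ ?_
      · rintro _ ⟨c, hc, rfl⟩
        exact hC hc
      · intro h1
        exact hC1 ((Subgroup.map_eq_bot_iff_of_injective _ L.subtype_injective).1 h1)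
      · intro h1
        apply hCF
        rw [← h1]
        exact (comap_map_eq_self_of_injective L.subtype_injective C).symm
    · intro R hTR hR
      have h1 : R.map L.subtype ≠ L := by
        intro h2
        apply hR
        rw [eq_top_iff]
        intro r _
        have h3 : (r : H) ∈ R.map L.subtype := by
          rw [h2]
          exact r.2
        obtain ⟨s, hs, hsr⟩ := h3
        rwa [← (Subtype.ext hsr : s = r)]
      have h2 : T ≤ R.map L.subtype := fun t ht => ⟨⟨t, hTL ht⟩, hTR ht, rfl⟩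
      have h3 : A ≤ o2 (R.map L.subtype) := by
        by_contra hc
        exact h1 (hmin _ ⟨h2, hc⟩ (map_subtype_le R))
      exact fun x hx => KL.GenTool.o2_subgroupOf_le R (h3 hx)
    · intro hc
      apply hAL
      have h1 := (map_mono (f := L.subtype) hc).trans (KL.GenTool.o2_map_le L.subtype ⊤)
      rw [e1 hAL', ← MonoidHom.range_eq_map, L.range_subtype] at h1
      exact h1
  -- normalizers of `T`
  have hNN : ∀ g : L, g ∈ normalizer ((T.subgroupOf L : Subgroup L) : Set L) → (g : H) ∈ normalizer (T : Set H) := by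
    intro g hg
    rw [mem_normalizer_iff] at hg ⊢
    intro t
    constructor
    · intro ht
      exact (hg ⟨t, hTL ht⟩).1 ht
    · intro ht
      have h1 : t ∈ L := by
        have h2 := L.mul_mem (L.mul_mem (L.inv_mem g.2) (hTL ht)) g.2
        have e : (g : H)⁻¹ * (g * t * (g : H)⁻¹) * g = t := by group
        rwa [e] at h2
      exact (hg ⟨t, h1⟩).2 ht
  -- a `T`-minimal subgroup of `L` which moves `Z`
  obtain ⟨P, hPm, hPZ⟩ : ∃ P : Subgroup L, IsMinPar (T.subgroupOf L) P ∧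
      ¬ ∀ z ∈ Z, ∀ p ∈ P, p • z = z := by
    by_contra hc
    push Not at hc
    apply hAL
    -- `C_L(Z)` is normal in `L`
    let F : Subgroup H := fxr H Z ⊓ L
    have hTF : T ≤ F := le_inf (fun t ht z hz => i.tZ z hz t ht) hTL
    have h1 : (⊤ : Subgroup L) ≤ (normalizer (F : Set H)).subgroupOf L := by
      refine le_of_forall (S := T.subgroupOf L) le_top (fun g hg => ?_) fun P hP _ p hp => ?_
      · rw [mem_subgroupOf]
        have hg1 := hNN g hg.2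
        have hconj : ∀ k : H, k ∈ normalizer (T : Set H) → k ∈ L → ∀ w ∈ F, k * w * k⁻¹ ∈ F := by
          intro k hk hkL w hw
          refine ⟨fun z hz => ?_, L.mul_mem (L.mul_mem hkL hw.2) (L.inv_mem hkL)⟩
          have h2 := hw.1 _ (i.NZ k⁻¹ (inv_mem hk) z hz)
          rw [mul_smul, mul_smul, h2, smul_inv_smul]
        rw [mem_normalizer_iff]
        intro w
        refine ⟨hconj g hg1 g.2 w, fun hw => ?_⟩
        have h2 := hconj (g : H)⁻¹ (inv_mem hg1) (L.inv_mem g.2) _ hw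
        have e : (g : H)⁻¹ * (g * w * (g : H)⁻¹) * (g : H)⁻¹⁻¹ = w := by group
        rwa [e] at h2
      · rw [mem_subgroupOf]
        exact le_normalizer (show (p : H) ∈ F from ⟨fun z hz => hc P hP z hz p hp, p.2⟩)
    have h2 : L ≤ normalizer (F : Set H) := fun g hg => h1 (mem_top (⟨g, hg⟩ : L))
    exact (le_inf i.AZ (hAT.trans hTF)).trans
      ((InpG.o2_le_o2_of_le inf_le_left).trans (o2_le_o2 inf_le_right h2))
  push Not at hPZ
  obtain ⟨x, hxZ, p, hp, hpx⟩ := hPZ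
  have htx : ∀ t ∈ T.subgroupOf L, t • x = x := fun t ht => i.tZ x hxZ _ ht
  -- `L` does not normalise `Y`
  have hYn : ¬ ∀ g : L, ∀ w ∈ Y, g • w ∈ Y := by
    intro hc
    apply hAL
    let F : Subgroup H := fxr H Y ⊓ L
    have h2 : L ≤ normalizer (F : Set H) := by
      have hconj : ∀ k ∈ L, ∀ w ∈ F, k * w * k⁻¹ ∈ F := by
        intro k hkL w hw
        refine ⟨fun z hz => ?_, L.mul_mem (L.mul_mem hkL hw.2) (L.inv_mem hkL)⟩
        have h2 := hw.1 _ (hc ⟨k, hkL⟩⁻¹ z hz)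
        change (k * w * k⁻¹) • z = z
        rw [mul_smul, mul_smul]
        change w • k⁻¹ • z = k⁻¹ • z at h2
        rw [h2, smul_inv_smul]
      intro g hg
      rw [mem_normalizer_iff]
      intro w
      refine ⟨hconj g hg w, fun hw => ?_⟩
      have h2 := hconj g⁻¹ (L.inv_mem hg) _ hw
      have e : g⁻¹ * (g * w * g⁻¹) * g⁻¹⁻¹ = w := by group
      rwa [e] at h2
    exact (le_inf i.AY (le_inf (i.AY.trans (MinSimple.VModule.o2_le _)) hAL')).trans
      ((InpG.o2_le_o2_of_le inf_le_left).trans (o2_le_o2 inf_le_right h2))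
  refine false_of_lb hlb hM hE htx (Y := Y) (fun g hg w hw => i.NY g (hNN g hg) w hw)
    (fun w hw tw g => i.cY w hw (fun t ht => tw ⟨t, hTL ht⟩ ht) g) (fun R hR => ?_) hYn ⟨P, hPm, p, hp, hpx⟩
  rcases i.par _ (KL.GenTool.minPar_map_subtype hTL hR) with h1 | ⟨h1, h2⟩
  · exact Or.inl fun q hq => h1 x hxZ _ ⟨q, hq, rfl⟩
  · refine Or.inr ⟨fun q hq w hw => h1 _ ⟨q, hq, rfl⟩ w hw, fun g hg hgo y hy he => h2 _ ⟨g, hg, rfl⟩ ?_ x hxZ y hy he⟩
    rwa [Subgroup.coe_subtype, orderOf_coe]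

end InpC

end Cfsg.Agent.Omega.KL.StarM
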