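import Cfsg.Agent.Omega.KL.StarQ.CoreN

/-!
# `O(H') = 1` after the core of KL*, in all cases (bb #24701, #24934, #25217)

The situation after `Star.Core.core` : `c : Cor H M T A Y x N A' x' u'`, `o : Out H N T A' H' N' π f B`.  Every
`T`-minimal `P` fixes `x`, or fixes `u'`, or normalises `Y` (and `J`).

* `Bad T J Y` : an element `d` of odd order which normalises `Y` and `J ≤ T`, with `[J, d]` trivial on `[Y, d]`,
  centralises `Y`;
* **`odd_bot`** : if the `T`-fixed vectors of `Y` are fixed by `H`, or `Bad`, then `O(H') = 1`.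
-/

set_option autoImplicit false

namespace Cfsg.Agent.Omega.KL.StarM

open Subgroup Cfsg Cfsg.Agent.ZN Cfsg.Agent.ClassTwoFusion.Quad
open Cfsg.Agent.Omega.ML.MinFrame hiding comm_of_sq
open Cfsg.Agent.Omega.ML.Final Cfsg.Agent.Omega.NO3S.EMany.Low
open Cfsg.Agent.Omega.KL.Star.Core Cfsg.Agent.Omega.KL.StarQ
open Cfsg.Agent.MinSimple.VModule (o2_isPGroup o2_le le_o2 le_normalizer_o2 o2_le_of_sylow oddGen oddGen_le oddGen_def)
open Cfsg.Agent.MinSimple.MinParabolic (IsMinPar le_of_forall)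

universe u v

/-- the stabiliser of the subgroup `Y` -/
def stb (H : Type u) [Group H] {M : Type v} [Group M] [MulDistribMulAction H M] (Y : Subgroup M) : Subgroup H where
  carrier := {g : H | ∀ w : M, g • w ∈ Y ↔ w ∈ Y}
  one_mem' := fun w => by rw [one_smul]
  mul_mem' := fun {a b} ha hb w => by rw [mul_smul, ha, hb]
  inv_mem' := fun {a} ha w => by rw [← ha, smul_inv_smul]

section

variable {H : Type u} [Group H] {M : Type v} [Group M] [MulDistribMulAction H M]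

theorem mem_stb {Y : Subgroup M} {g : H} : g ∈ stb H Y ↔ ∀ w : M, g • w ∈ Y ↔ w ∈ Y := Iff.rfl

theorem le_stb {Y : Subgroup M} {P : Subgroup H} (hP : ∀ p ∈ P, ∀ w ∈ Y, p • w ∈ Y) : P ≤ stb H Y := by
  intro p hp w
  refine ⟨fun hw => ?_, hP p hp w⟩
  have h1 := hP p⁻¹ (inv_mem hp) _ hw
  rwa [inv_smul_smul] at h1

/-- an element of odd order which normalises `Y` and `J`, with `[J, d]` trivial on `[Y, d]`, centralises `Y` -/
def Bad (J : Subgroup H) (Y : Subgroup M) : Prop :=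
  ∀ d : H, Odd (orderOf d) → d ∈ stb H Y → d ∈ normalizer (J : Set H) →
    (∀ j ∈ J, ∀ w ∈ Y, (j * d * j⁻¹ * d⁻¹) • ((d • w) * w⁻¹) = (d • w) * w⁻¹) → ∀ w ∈ Y, d • w = w

end

section

variable {H : Type u} [Group H] [Finite H] {M : Type v} [Group M] [Finite M] [MulDistribMulAction H M]
  {T A : Subgroup H}

/-- **`O(H') = 1`** -/
theorem odd_bot (h : LB H M T A) (hM : MLK.{u, v}) {x : M} (tx : ∀ t ∈ T, t • x = x) {Y : Subgroup M}
    {N : Type v} [Group N] [Finite N] [MulDistribMulAction H N] {A' : Subgroup H} {x' u' : N}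
    (c : Cor H M T A Y x N A' x' u') {x1 u1 : N} (hx1 : x1 ∈ cmm N A') (hu1 : u1 ∈ cmm N A')
    (hxs : ∀ g : H, g • x1 = x1 ↔ g • x' = x') (hus : ∀ g : H, g • u1 = u1 ↔ g • u' = u')
    {H' : Type u} [Group H'] [Finite H'] {N' : Type v} [Group N'] [Finite N'] [MulDistribMulAction H' N']
    {π : H →* H'} {f : ↥(cmm N A') →* N'} {B : Subgroup H'} (o : Out H N T A' H' N' π f B)
    (nmax : ¬ ∃ L : Subgroup H', L ≠ ⊤ ∧ ∀ R : Subgroup H', T.map π ≤ R → R ≠ ⊤ → R ≤ L)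
    {J : Subgroup H} (JT : J ≤ T)
    (NY : ∀ g ∈ normalizer (T : Set H), ∀ w ∈ Y, g • w ∈ Y)
    (cb : (∀ w ∈ Y, (∀ t ∈ T, t • w = w) → ∀ g : H, g • w = w) ∨
      (Bad J Y ∧ normalizer (T : Set H) ≤ normalizer (J : Set H) ∧
        ∀ P : Subgroup H, IsMinPar T P → (∀ p ∈ P, p • x = x) ∨ (∀ p ∈ P, p • u' = u') ∨ P ≤ normalizer (J : Set H)))
    (par : ∀ P : Subgroup H, IsMinPar T P →
      (∀ p ∈ P, p • x = x) ∨ (∀ p ∈ P, p • u' = u') ∨ ∀ p ∈ P, ∀ w ∈ Y, p • w ∈ Y) :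
    ∀ K : Subgroup H', K.Normal → Odd (Nat.card K) → K = ⊥ := by
  intro K hK hKo
  have hx : ¬ ∀ g : H, g • x = x := fun hc => c.mx fun g => (c.sx ⊤ le_top).2 (fun g _ => hc g) g (mem_top g)
  have TY : ∀ t ∈ T, ∀ w ∈ Y, t • w ∈ Y := fun t ht => NY t (le_normalizer ht)
  have tx1 : ∀ t ∈ T, t • x1 = x1 := fun t ht => (hxs t).2 (c.tx t ht)
  have tu1 : ∀ t ∈ T, t • u1 = u1 := fun t ht => (hus t).2 (c.tu t ht)
  have mx1 : ¬ ∀ g : H, g • x1 = x1 := fun hc => c.mx fun g => (hxs g).1 (hc g)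
  have mu1 : ¬ ∀ g : H, g • u1 = u1 := fun hc => c.mu fun g => (hus g).1 (hc g)
  -- images of vectors
  have him : ∀ {m : N} (hm : m ∈ cmm N A') {g : H}, g • m = m → π g • f ⟨m, hm⟩ = f ⟨m, hm⟩ := by
    intro m hm g hg
    rw [← o.eqv g ⟨m, hm⟩]
    exact congrArg f (Subtype.ext hg)
  have hne : ∀ {m : N} (hm : m ∈ cmm N A'), (∀ t ∈ T, t • m = m) → (¬ ∀ g : H, g • m = m) → f ⟨m, hm⟩ ≠ 1 := by
    intro m hm tm hc h1
    exact hc fun g => c.lb.fix_of_cvKm tm ((o.ker _).1 h1) g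
  have nx1 := hne hx1 tx1 mx1
  have nu1 := hne hu1 tu1 mu1
  -- the kernel of `π` centralises `U¹`
  have hkx' : ∀ k ∈ π.ker ⊔ T, k • x1 = x1 := by
    refine c.lb.fix_of_mod tx1 le_sup_right (I := cv N (Km A' : Set H))
      (fun w hw tw g _ => c.lb.fix_of_cvKm tw hw g) fun k hk => ?_
    have h1 : π k • f ⟨x1, hx1⟩ = f ⟨x1, hx1⟩ := by
      obtain ⟨k1, hk1, s, hs', rfl⟩ := mem_sup_of_normal_left.1 hk
      rw [map_mul, (MonoidHom.mem_ker).1 hk1, one_mul]
      exact him hx1 (tx1 s hs')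
    rw [← o.eqv k ⟨x1, hx1⟩, ← mul_inv_eq_one, ← map_inv, ← map_mul, o.ker] at h1
    exact h1
  have hkx : ∀ k ∈ π.ker, k • x = x := by
    have h1 : ∀ k ∈ π.ker ⊔ T, k • x' = x' := fun k hk => (hxs k).1 (hkx' k hk)
    exact fun k hk => (c.sx _ le_sup_right).1 h1 k (mem_sup_left hk)
  have hkU : ∀ k ∈ π.ker, ∀ w ∈ cmm M A, k • w = w := by
    intro k hk w hw
    have h1 : k ∈ fxr H (orb (⊤ : Subgroup H) x) := by
      rw [mem_fxr_orb]
      intro s _
      have h2 := hkx (s⁻¹ * k * s) (by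
        have := (inferInstance : (π.ker).Normal).conj_mem k hk s⁻¹
        rwa [inv_inv] at this)
      rwa [mul_smul, mul_smul, inv_smul_eq_iff] at h2
    exact h1 w (h.cmm_le hM tx hx hw)
  -- `K ≤ π(X)` if every `T`-minimal `P` fixes a vector or lies in `X`
  have hKX : ∀ X : Subgroup H, T ≤ X → normalizer (T : Set H) ≤ X →
      (∀ P : Subgroup H, IsMinPar T P → (∀ p ∈ P, p • x = x) ∨ (∀ p ∈ P, p • u' = u') ∨ P ≤ X) → K ≤ X.map π := by
    intro X hTX hNX hPX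
    have hle : K ⊔ T.map π ≤ X.map π := by
      refine le_of_forall le_sup_right ?_ ?_
      · rintro ν ⟨-, hν⟩
        obtain ⟨_, ⟨t, ht, rfl⟩, n, hn, rfl⟩ := KL.GenTool.exists_normalizer_map π o.πs h.two h.syl hν
        exact mul_mem ⟨t, hTX ht, rfl⟩ ⟨n, hNX hn, rfl⟩
      · intro P' hP' hPK
        obtain ⟨P, hP, rfl⟩ := KL.GenTool.exists_minPar_map π o.πs hP'
        obtain ⟨hn1, hn2⟩ := inf_normal o.lb nmax hK hKo hP'.le hPK
        have hno : ∀ m : N', m ≠ 1 → (∀ p ∈ P.map π, p • m = m) → False := by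
          intro m hm hPm
          have h6 := bot_of_fix o.faith o.irr hn1 hm fun n hn => hPm n hn.1
          rw [h6, bot_sup_eq] at hn2
          exact hP'.ne hn2
        rcases hPX P hP with h1 | h1 | h1
        · refine (hno _ nx1 ?_).elim
          rintro _ ⟨q, hq, rfl⟩
          exact him hx1 ((hxs q).2 ((c.sx P hP.le).2 h1 q hq))
        · refine (hno _ nu1 ?_).elim
          rintro _ ⟨q, hq, rfl⟩
          exact him hu1 ((hus q).2 (h1 q hq))
        · exact map_mono h1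
    exact le_sup_left.trans hle
  -- a subgroup `X` which covers `K`, with 'odd elements of `X` over `K` centralise `Y`'
  have hend : ∀ X : Subgroup H, K ≤ X.map π →
      (∀ g ∈ X, π g ∈ K → Odd (orderOf g) → ∀ w ∈ Y, g • w = w) → K = ⊥ := by
    intro X hKX hX
    refine bot_of_fix o.faith o.irr hK nu1 fun κ hκ => ?_
    obtain ⟨g, hg, rfl⟩ := hKX hκ
    -- the odd part of `g`
    obtain ⟨a, m, hm, ha⟩ := Nat.exists_eq_pow_mul_and_not_dvd (orderOf_pos g).ne' 2 (by norm_num)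
    have hm' : Odd m := Nat.not_even_iff_odd.1 fun h => hm h.two_dvd
    have hm0 : 0 < m := hm'.pos
    have hgo : orderOf (g ^ 2 ^ a) = m := by
      rw [orderOf_pow_of_dvd (by positivity) (ha ▸ Dvd.intro _ rfl), ha, Nat.mul_div_cancel_left _ (by positivity)]
    have hgo' : Odd (orderOf (g ^ 2 ^ a)) := hgo ▸ hm'
    have hgK : π (g ^ 2 ^ a) ∈ K := by
      rw [map_pow]
      exact K.pow_mem hκ _
    have h1 : π g ^ 2 ^ a • f ⟨u1, hu1⟩ = f ⟨u1, hu1⟩ := by
      rw [← map_pow]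
      exact him hu1 ((hus _).2 (c.su _ hgo' (hX _ (X.pow_mem hg _) hgK hgo')))
    have h2 : (2 ^ a).Coprime (orderOf (π g)) := by
      have h3 : orderOf (π g) ∣ Nat.card K := by
        have := orderOf_dvd_natCard (⟨π g, hκ⟩ : K)
        rwa [orderOf_mk] at this
      exact Nat.Coprime.pow_left a (Nat.coprime_two_left.mpr (hKo.of_dvd_nat h3))
    obtain ⟨j, hj⟩ := exists_pow_eq_self_of_coprime h2
    have h3 : (π g ^ 2 ^ a) ^ j ∈ MulAction.stabilizer H' (f ⟨u1, hu1⟩) := pow_mem h1 j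
    rw [hj] at h3
    exact h3
  have hTN : T ≤ stb H Y := le_stb TY
  have hNN : normalizer (T : Set H) ≤ stb H Y := le_stb NY
  rcases cb with cY | ⟨hbad, hNJ, hPJ⟩
  · -- the `T`-fixed vectors of `Y` are fixed by `H`
    have hKN : K ≤ (stb H Y).map π := hKX _ hTN hNN fun P hP => by
      rcases par P hP with h1 | h1 | h1
      · exact Or.inl h1
      · exact Or.inr (Or.inl h1)
      · exact Or.inr (Or.inr (le_stb h1))
    let D : Subgroup H := stb H Y ⊓ K.comap π ⊓ Km A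
    have hDm : D.map π ≤ K := by
      rintro _ ⟨g, hg, rfl⟩
      exact hg.1.2
    have hDo : Odd (Nat.card (D.map π)) := hKo.of_dvd_nat (card_dvd_of_le hDm)
    let W : Subgroup M := closure {w : M | ∃ g ∈ D, ∃ y ∈ ((Y ⊓ cmm M A : Subgroup M) : Set M), w = (g • y) * y⁻¹}
    have hWY : W ≤ Y ⊓ cmm M A := by
      rw [closure_le]
      rintro _ ⟨g, hg, y, hy, rfl⟩
      exact mul_mem (⟨(hg.1.1 y).2 hy.1, smul_mem_cmm g hy.2⟩ : g • y ∈ Y ⊓ cmm M A) (inv_mem hy)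
    have hDT : ∀ t ∈ T, ∀ g ∈ D, t * g * t⁻¹ ∈ D := by
      intro t ht g hg
      refine ⟨⟨(stb H Y).mul_mem ((stb H Y).mul_mem (hTN ht) hg.1.1) ((stb H Y).inv_mem (hTN ht)), ?_⟩, ?_⟩
      · exact (inferInstance : (K.comap π).Normal).conj_mem g hg.1.2 t
      · exact (inferInstance : (Km A).Normal).conj_mem g hg.2 t
    have hTW : ∀ t ∈ T, ∀ w ∈ W, t • w ∈ W := by
      intro t ht w hw
      have h1 : W ≤ W.comap (MulDistribMulAction.toMonoidHom M t) := by
        rw [closure_le]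
        rintro _ ⟨g, hg, y, hy, rfl⟩
        change t • ((g • y) * y⁻¹) ∈ W
        refine subset_closure ⟨t * g * t⁻¹, hDT t ht g hg, t • y, ⟨TY t ht y hy.1, smul_mem_cmm t hy.2⟩, ?_⟩
        rw [smul_mul', smul_inv', ← mul_smul, ← mul_smul, inv_mul_cancel_right]
      exact h1 hw
    have hW1 : W = ⊥ := by
      by_contra hne
      obtain ⟨w, hw, hw1, tw⟩ := exists_fix h.sq h.two hTW hne
      exact hw1 (norm_one h.sq π (U := cmm M A) hkU hDo (fun m hm => hm.2) hw fun g _ => cY w (hWY hw).1 tw g)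
    refine hend _ hKN fun g hg hgK hgo w hw => ?_
    have hgA : g ∈ Km A := mem_of_odd h.two h.gen hgo
    refine fix_of_odd h.sq hgo ?_
    have h1 : (g • w) * w⁻¹ ∈ ((Y ⊓ cmm M A : Subgroup M) : Set M) :=
      ⟨Y.mul_mem ((hg w).2 hw) (Y.inv_mem hw), mem_cmm hgA w⟩
    have h2 : (g • ((g • w) * w⁻¹)) * ((g • w) * w⁻¹)⁻¹ ∈ W := subset_closure ⟨g, ⟨⟨hg, hgK⟩, hgA⟩, _, h1, rfl⟩
    rw [hW1, mem_bot] at h2
    exact mul_inv_eq_one.1 h2
  · -- `Bad`
    have hKN : K ≤ (stb H Y ⊓ normalizer (J : Set H)).map π := by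
      refine hKX _ (le_inf hTN (le_normalizer.trans hNJ)) (le_inf hNN hNJ) fun P hP => ?_
      rcases par P hP with h1 | h1 | h1
      · exact Or.inl h1
      · exact Or.inr (Or.inl h1)
      · rcases hPJ P hP with h2 | h2 | h2
        · exact Or.inl h2
        · exact Or.inr (Or.inl h2)
        · exact Or.inr (Or.inr (le_inf (le_stb h1) h2))
    refine hend _ hKN fun g hg hgK hgo w hw => ?_
    have hgA : g ∈ Km A := mem_of_odd h.two h.gen hgo
    refine hbad g hgo hg.1 hg.2 (fun j hj w hw => ?_) w hw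
    refine hkU _ ?_ _ (mem_cmm hgA w)
    rw [MonoidHom.mem_ker]
    refine eq_one_of_odd hKo (Q := J.map π) ((h.two.to_le JT).map π) ?_ ?_
    · rw [map_mul, map_mul, map_mul, map_inv, map_inv]
      exact K.mul_mem (hK.conj_mem _ hgK _) (K.inv_mem hgK)
    · refine ⟨j * g * j⁻¹ * g⁻¹, ?_, rfl⟩
      have h1 := (mem_normalizer_iff.1 hg.2 j⁻¹).1 (J.inv_mem hj)
      have e : j * g * j⁻¹ * g⁻¹ = j * (g * j⁻¹ * g⁻¹) := by group
      rw [SetLike.mem_coe, e]
      exact J.mul_mem hj h1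

end

end Cfsg.Agent.Omega.KL.StarM
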