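import Cfsg.Agent.Omega.KL.StarM.MainB
import Cfsg.Agent.Omega.KL.TwoZ.Inp

/-!
# `PreB → InpB` (LEMMA MOV in vector form, bb #25784 (2), (3))

`C` acts on `M`, not necessarily faithfully, `A` is exact modulo the kernel: `C / C_C(M)` and an atom in the image of `A`.

* `exists_odd_lift` : elements of odd order lift to elements of odd order;
* **`PreB.inp`**, **`PreB.false`**.
-/

set_option autoImplicit false
set_option linter.unusedSectionVars false

namespace Cfsg.Agent.Omega.KL.StarM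

open Subgroup Cfsg Cfsg.Agent.Omega.MinPar
open Cfsg.Agent.ZN (o2 zc)
open Cfsg.Agent.ClassTwoFusion.Quad Cfsg.Agent.Omega.ML.MinFrame
open Cfsg.Agent.MinSimple.MinParabolic (IsMinPar)
open Cfsg.Agent.MinSimple.VModule (le_o2 o2_isPGroup o2_le le_normalizer_o2)
open Cfsg.Agent.Omega.KL.Quo (norm_lift)

universe u v

/-- elements of odd order lift to elements of odd order -/
theorem exists_odd_lift {C : Type*} [Group C] [Finite C] {H : Type*} [Group H] (π : C →* H) {R : Subgroup C} {d : H}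
    (hd : Odd (orderOf d)) (h : d ∈ R.map π) : ∃ c ∈ R, Odd (orderOf c) ∧ π c = d := by
  obtain ⟨r, hr, rfl⟩ := h
  obtain ⟨a, -, ha⟩ := StarQ.exists_pow (T := (⊥ : Subgroup C)) IsPGroup.of_bot (one_mem _) r
  have h1 : (2 ^ a).Coprime (orderOf (π r)) := Nat.Coprime.pow_left a (Nat.coprime_two_left.mpr hd)
  obtain ⟨k, hk⟩ := exists_pow_eq_self_of_coprime h1
  refine ⟨(r ^ 2 ^ a) ^ k, R.pow_mem (R.pow_mem hr _) _, ha.of_dvd_nat (orderOf_pow_dvd k), ?_⟩
  rw [map_pow, map_pow, hk]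

variable {C : Type u} [Group C] [Finite C] {M : Type v} [Group M] [Finite M] [MulDistribMulAction C M]
  {T A J : Subgroup C} {Z Y Y' : Subgroup M}

theorem PreB.inp (h : PreB T A J Z Y Y') :
    ∃ (H : Type u) (_ : Group H) (_ : Finite H) (_ : MulDistribMulAction H M) (T' A' J' : Subgroup H),
      InpB T' A' J' Z Y Y' := by
  have htriv : ∀ k ∈ fxr C (⊤ : Subgroup M), ∀ m : M, k • m = m := fun k hk m => hk m (mem_top m)
  have hN : (fxr C (⊤ : Subgroup M)).Normal := fxr_normal fun _ _ _ => mem_top _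
  set N := fxr C (⊤ : Subgroup M) with hNdef
  let _ : MulDistribMulAction (C ⧸ N) M := quoAct N htriv
  let π : C →* C ⧸ N := QuotientGroup.mk' N
  have hπ : Function.Surjective π := QuotientGroup.mk'_surjective N
  have he : ∀ (g : C) (v : M), π g • v = g • v := fun _ _ => rfl
  have hker : ∀ k : C, (∀ v : M, k • v = v) → π k = 1 := fun k hk =>
    (QuotientGroup.eq_one_iff k).2 fun v _ => hk v
  have hker2 : ∀ k : C, π k = 1 → ∀ v : M, k • v = v := fun k hk v =>
    (QuotientGroup.eq_one_iff k).1 hk v (mem_top v)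
  -- stabilisers
  have hfx : ∀ W : Subgroup M, (fxr C W).map π = fxr (C ⧸ N) W := by
    intro W
    ext g
    constructor
    · rintro ⟨c, hc, rfl⟩
      exact hc
    · intro hg
      obtain ⟨c, rfl⟩ := hπ g
      exact ⟨c, hg, rfl⟩
  have ho2 : ∀ S : Subgroup C, A ≤ o2 S → A.map π ≤ o2 (S.map π) := by
    intro S hS
    refine (map_mono hS).trans (le_o2 (map_mono (o2_le _)) ((o2_isPGroup _).map π) ?_)
    exact (map_mono (le_normalizer_o2 _)).trans (le_normalizer_map π)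
  have hx : A.map π ≤ o2 (fxr (C ⧸ N) Z) := by
    rw [← hfx]
    exact ho2 _ h.AZ
  have hy : A.map π ≤ o2 (fxr (C ⧸ N) Y) := by
    rw [← hfx]
    exact ho2 _ h.AY
  have hsyl : ¬ 2 ∣ (T.map π).index := fun h2 => h.syl (h2.trans (index_map_dvd T hπ))
  have hKH : IsKGroup (C ⧸ N) := ML.Final.sec_KG.quo C h.KC N
  have hel : ∀ a ∈ A.map π, a * a = 1 := by
    rintro _ ⟨a, ha, rfl⟩
    rw [← map_mul, h.el a ha, map_one]
  -- `A.map π` is faithful on `⟨Z^C⟩`
  have hfa : ∀ g ∈ A.map π, (∀ (c : C ⧸ N), ∀ z ∈ Z, g • c • z = c • z) → g = 1 := by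
    rintro _ ⟨a, ha, rfl⟩ hg
    exact hker a (h.nk a ha fun c z hz => hg (π c) z hz)
  -- (NO)
  have hcv : ∀ B : Subgroup C, cv M (B.map π : Set (C ⧸ N)) = cv M (B : Set C) := by
    intro B
    ext v
    constructor
    · exact fun hv a ha => hv _ ⟨a, ha, rfl⟩
    · rintro hv _ ⟨a, ha, rfl⟩
      exact hv a ha
  have hcard : ∀ B : Subgroup C, Nat.card (B.map π) = N.relIndex B := by
    intro B
    rw [← relIndex_bot_left, ← relIndex_comap, MonoidHom.comap_bot, QuotientGroup.ker_mk']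
  have hno : ∀ B : Subgroup (C ⧸ N), B ≤ A.map π → Nat.card B ≤ (cv M (B : Set (C ⧸ N))).index := by
    intro B hB
    have e : (A ⊓ B.comap π).map π = B := by
      apply le_antisymm
      · rintro _ ⟨a, ha, rfl⟩
        exact ha.2
      · intro g hg
        obtain ⟨a, ha, rfl⟩ := hB hg
        exact ⟨a, ⟨ha, hg⟩, rfl⟩
    rw [← e, hcv, hcard]
    exact h.no _ inf_le_left
  have hex : (cv M (A.map π : Set (C ⧸ N))).index = Nat.card (A.map π) := by
    refine le_antisymm ?_ (hno _ le_rfl)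
    rw [hcv, hcard]
    exact h.le
  have hA1 : A.map π ≠ ⊥ := by
    intro h1
    obtain ⟨a, ha, m, hm⟩ := h.mv
    apply hm
    refine hker2 a ?_ m
    rw [← mem_bot, ← h1]
    exact ⟨a, ha, rfl⟩
  -- an atom
  obtain ⟨B, ⟨hBA, hB1, hBe⟩, hmin⟩ : ∃ B : Subgroup (C ⧸ N), (B ≤ A.map π ∧ B ≠ ⊥ ∧
      (cv M (B : Set (C ⧸ N))).index = Nat.card B) ∧ ∀ B' : Subgroup (C ⧸ N), (B' ≤ A.map π ∧ B' ≠ ⊥ ∧
      (cv M (B' : Set (C ⧸ N))).index = Nat.card B') → B' ≤ B → B' = B := by
    obtain ⟨B, hB⟩ := (Set.toFinite {B : Subgroup (C ⧸ N) | B ≤ A.map π ∧ B ≠ ⊥ ∧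
      (cv M (B : Set (C ⧸ N))).index = Nat.card B}).exists_minimal ⟨A.map π, le_rfl, hA1, hex⟩
    exact ⟨B, hB.prop, fun B' hB' hle => le_antisymm hle (hB.le_of_le hB' hle)⟩
  have htZ : ∀ z ∈ Z, ∀ t ∈ T.map π, t • z = z := by
    rintro z hz _ ⟨t, ht, rfl⟩
    exact h.tZ z hz t ht
  refine ⟨C ⧸ N, inferInstance, inferInstance, inferInstance, T.map π, B, J.map π, ?_⟩
  refine ⟨h.sq, h.two.map π, hsyl, htZ, ?_, ?_, h.ZY', h.dis, ?_, ?_, fun a ha => hel a (hBA ha), hBe, ?_, ?_,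
    hBA.trans hx, hBA.trans hy, hKH⟩
  · intro g hg z hz
    obtain ⟨t, ht, n, hn, rfl⟩ := norm_lift π hπ h.two h.syl hg
    rw [he, mul_smul]
    exact h.NY t (le_normalizer ht) _ (h.NY n hn z hz)
  · intro g hg z hz
    obtain ⟨t, ht, n, hn, rfl⟩ := norm_lift π hπ h.two h.syl hg
    rw [he, mul_smul]
    exact h.NY' t (le_normalizer ht) _ (h.NY' n hn z hz)
  · have hNT : normalizer ((T.map π : Subgroup (C ⧸ N)) : Set (C ⧸ N)) ≤ (normalizer (T : Set C)).map π := by
      intro g hg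
      obtain ⟨t, ht, n, hn, rfl⟩ := norm_lift π hπ h.two h.syl hg
      exact ⟨t * n, mul_mem (le_normalizer ht) hn, rfl⟩
    rcases h.cb with h1 | ⟨JT, NJ, parJ, bad⟩
    · refine Or.inl fun w hw hwT g => ?_
      obtain ⟨c, rfl⟩ := hπ g
      exact h1 w hw (fun t ht => hwT (π t) ⟨t, ht, rfl⟩) c
    · have hcY : ∀ R : Subgroup C, (∀ g ∈ R, Odd (orderOf g) → ∀ w ∈ Y, g • w = w) →
          ∀ g ∈ R.map π, Odd (orderOf g) → ∀ w ∈ Y, g • w = w := by
        intro R hR g hg hgo w hw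
        obtain ⟨d, hd, hdo, rfl⟩ := exists_odd_lift π hgo hg
        exact hR d hd hdo w hw
      refine Or.inr ⟨map_mono JT, ?_, fun P hP => ?_, ?_⟩
      · refine hNT.trans ?_
        exact (map_mono NJ).trans (le_normalizer_map π)
      · obtain ⟨R, hR, rfl⟩ := Quo.exists_minPar π hπ hP
        rcases parJ R hR with h1 | h1 | h1
        · left
          rintro z hz _ ⟨r, hr, rfl⟩
          exact h1 z hz r hr
        · exact Or.inr (Or.inl (hcY R h1))
        · exact Or.inr (Or.inr ((map_mono h1).trans (le_normalizer_map π)))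
      · intro d hdo hdG hdY hd
        have key : ∀ c : C, Odd (orderOf c) → π c = d →
            ((∃ P : Subgroup C, IsMinPar T P ∧ (¬ ∀ z ∈ Z, ∀ p ∈ P, p • z = z) ∧ P ≤ normalizer (J : Set C) ∧ c ∈ P) ∨
              c ∈ normalizer (T : Set C)) → ∀ w ∈ Y, d • w = w := by
          rintro c hco rfl hcG w hw
          exact bad c hco hcG hdY (fun j hj w hw => hd (π j) ⟨j, hj, rfl⟩ w hw) w hw
        rcases hdG with ⟨P, hP, hPZ, -, hdP⟩ | hdT
        · obtain ⟨R, hR, rfl⟩ := Quo.exists_minPar π hπ hP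
          have hRZ : ¬ ∀ z ∈ Z, ∀ p ∈ R, p • z = z := by
            intro hc
            apply hPZ
            rintro z hz _ ⟨r, hr, rfl⟩
            exact hc z hz r hr
          rcases (parJ R hR).resolve_left hRZ with h1 | h1
          · exact hcY R h1 d hdP hdo
          · obtain ⟨c, hc, hco, hcd⟩ := exists_odd_lift π hdo hdP
            exact key c hco hcd (Or.inl ⟨R, hR, hRZ, h1, hc⟩)
        · obtain ⟨c, hc, hco, hcd⟩ := exists_odd_lift π hdo (hNT hdT)
          exact key c hco hcd (Or.inr hc)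
  · intro P hP
    obtain ⟨R, hR, rfl⟩ := Quo.exists_minPar π hπ hP
    rcases h.par R hR with h1 | h1
    · left
      rintro z hz _ ⟨r, hr, rfl⟩
      exact h1 z hz r hr
    · right
      constructor
      · rintro _ ⟨r, hr, rfl⟩ w hw
        exact h1.1 r hr w hw
      · rintro _ ⟨r, hr, rfl⟩ w hw
        exact h1.2 r hr w hw
  · intro B' hB' hB1' hne
    refine lt_of_le_of_ne (hno B' (hB'.trans hBA)) fun h1 => hne ?_
    exact hmin B' ⟨hB'.trans hBA, hB1', h1.symm⟩ hB'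
  · -- `O₂(H)` centralises `⟨Z^H⟩`
    intro hle
    apply hB1
    rw [eq_bot_iff]
    intro b hb
    rw [mem_bot]
    refine hfa b (hBA hb) fun c z hz => ?_
    have h1 : c⁻¹ * b * c ∈ o2 (⊤ : Subgroup (C ⧸ N)) := by
      have := (mem_normalizer_iff.1 (le_normalizer_o2 (⊤ : Subgroup (C ⧸ N)) (mem_top c⁻¹)) b).1 (hle hb)
      rwa [inv_inv] at this
    have h2 : o2 (⊤ : Subgroup (C ⧸ N)) ≤ T.map π :=
      Cfsg.Agent.MinSimple.VModule.o2_le_of_sylow (h.two.map π) (by rwa [relIndex_top_right])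
    have h3 := htZ z hz _ (h2 h1)
    rw [mul_smul, mul_smul, inv_smul_eq_iff] at h3
    exact h3

/-- **LEMMA MOV in vector form**, `A` exact modulo the kernel; closed -/
theorem PreB.false (h : PreB T A J Z Y Y') : False := by
  obtain ⟨H, _, _, _, T', A', J', i⟩ := h.inp
  exact i.false

end Cfsg.Agent.Omega.KL.StarM
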